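import Mathlib
import Cfsg.Agent.H533.Wf.Kills
import Cfsg.Agent.H897.T5Sub
import Cfsg.Agent.TwoFusion.SLTwoFacts

/-!
# `WfRow` from the reduction to a quasisimple subgroup

`QSG L` : the group `L` is perfect, nontrivial, with central proper normal subgroups;
`qsg_of_surj` : images; `qsg_SL` : `SL₂(q)`, `q ≥ 4`;
`wfrow_of_red` : `QSG K`, `K ≠ S`, `Red p K` ⇒ `WfRow p S`;
`wfrow_of_sl` : `K` the image of `SL₂(q)`.
-/

set_option autoImplicit false
set_option linter.unusedSectionVars false

namespace Cfsg.Agent.H84.Wf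

universe u v w

open Subgroup Cfsg Cfsg.Agent.H533.T5 Cfsg.Agent.H533.Wf Cfsg.Agent.H897.T5Sub
open Matrix (SpecialLinearGroup)
open scoped commutatorElement

/-- Perfect, nontrivial, with central proper normal subgroups. -/
structure QSG (L : Type v) [Group L] : Prop where
  perfect : commutator L = ⊤
  ne : Nontrivial L
  norm : ∀ N : Subgroup L, N.Normal → N = ⊤ ∨ N ≤ center L

theorem QSG.of_surj {L : Type v} [Group L] {L' : Type w} [Group L'] (h : QSG L) (f : L →* L')
    (hf : Function.Surjective f) (hn : Nontrivial L') : QSG L' := by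
  refine ⟨commutator_of_surjective h.perfect hf, hn, ?_⟩
  intro N hN
  rcases h.norm (N.comap f) (hN.comap f) with h1 | h1
  · left
    rw [← Subgroup.map_comap_eq_self_of_surjective hf N, h1, Subgroup.map_top_of_surjective f hf]
  · right
    intro x hx
    obtain ⟨y, rfl⟩ := hf x
    have h2 := mem_center_iff.1 (h1 (show y ∈ N.comap f from hx))
    rw [mem_center_iff]
    intro z
    obtain ⟨w, rfl⟩ := hf z
    rw [← map_mul, h2 w, map_mul]

theorem QSG.of_simple {L : Type v} [Group L] (h : IsSimpleGroup L) (hnc : ¬ IsMulCommutative L) : QSG L := by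
  have h1 : commutator L ≠ ⊥ := by
    intro h2
    apply hnc
    refine ⟨⟨fun a b => ?_⟩⟩
    have h3 : ⁅b, a⁆ ∈ commutator L := by
      rw [commutator_def]
      exact Subgroup.commutator_mem_commutator (mem_top _) (mem_top _)
    rw [h2, mem_bot, commutatorElement_eq_one_iff_mul_comm] at h3
    exact h3.symm
  refine ⟨?_, h.toNontrivial, ?_⟩
  · rcases h.eq_bot_or_eq_top_of_normal (commutator L) inferInstance with h2 | h2
    · exact absurd h2 h1
    · exact h2
  · intro N hN
    rcases h.eq_bot_or_eq_top_of_normal N hN with h2 | h2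
    · right; rw [h2]; exact bot_le
    · left; exact h2

/-- a `QSG` subgroup is `QS` -/
theorem QSG.qs {G : Type v} [Group G] {L : Subgroup G} (h : QSG ↥L) : QS L := by
  have hmap : (⊤ : Subgroup ↥L).map L.subtype = L := by
    rw [← MonoidHom.range_eq_map, range_subtype]
  refine ⟨?_, ?_, ?_⟩
  · have h1 := Subgroup.map_subtype_commutator L
    rw [← h1, h.perfect, hmap]
  · exact (Subgroup.nontrivial_iff_ne_bot L).1 h.ne
  · intro N hN hn
    have h1 : (N.subgroupOf L).Normal := (normal_subgroupOf_iff_le_normalizer hN).2 hn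
    rcases h.norm _ h1 with h2 | h2
    · left
      exact le_antisymm hN (Subgroup.subgroupOf_eq_top.1 h2)
    · right
      intro x hx
      rw [mem_centralizer_iff]
      intro y hy
      have h3 := mem_center_iff.1 (h2 (show (⟨x, hN hx⟩ : ↥L) ∈ N.subgroupOf L from mem_subgroupOf.2 hx))
        ⟨y, hy⟩
      exact congrArg Subtype.val h3

section SL

variable {F : Type w} [Field F] [Fintype F]

/-- normal subgroups of `SL(2,F)` -/
theorem sl_normal' (hF : 4 ≤ Fintype.card F) (N : Subgroup (SpecialLinearGroup (Fin 2) F))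
    (hN : N.Normal) : N = ⊤ ∨ N ≤ center (SpecialLinearGroup (Fin 2) F) := by
  have hs := Cfsg.Agent.TwoFusion.SLTwoFacts.isSimpleGroup_psl (F := F) (by omega)
  have hp := Cfsg.Agent.TwoFusion.SLTwoFacts.commutator_eq_top (F := F) (by omega)
  obtain ⟨π, hπ⟩ : ∃ π : SpecialLinearGroup (Fin 2) F →* Matrix.ProjectiveSpecialLinearGroup (Fin 2) F,
      π = QuotientGroup.mk' _ := ⟨_, rfl⟩
  have hsurj : Function.Surjective π := by rw [hπ]; exact QuotientGroup.mk'_surjective _
  have hker : π.ker = center (SpecialLinearGroup (Fin 2) F) := by rw [hπ]; exact QuotientGroup.ker_mk' _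
  have hNn : (N.map π).Normal := hN.map π hsurj
  rcases hs.eq_bot_or_eq_top_of_normal _ hNn with h | h
  · right
    rw [← hker]
    exact (Subgroup.map_eq_bot_iff N).1 h
  · left
    have h1 : N ⊔ center (SpecialLinearGroup (Fin 2) F) = ⊤ := by
      rw [← hker, ← Subgroup.comap_map_eq, h, Subgroup.comap_top]
    rw [eq_top_iff, ← hp, _root_.commutator_def, Subgroup.commutator_le]
    intro a _ b _
    have ha : a ∈ N ⊔ center (SpecialLinearGroup (Fin 2) F) := by rw [h1]; exact mem_top a
    have hb : b ∈ N ⊔ center (SpecialLinearGroup (Fin 2) F) := by rw [h1]; exact mem_top b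
    rw [mem_sup_of_normal_left] at ha hb
    obtain ⟨n, hn, c, hc, rfl⟩ := ha
    obtain ⟨n', hn', c', hc', rfl⟩ := hb
    rw [mem_center_iff] at hc hc'
    have e : ⁅n * c, n' * c'⁆ = ⁅n, n'⁆ := by
      rw [commutatorElement_def, commutatorElement_def]
      calc n * c * (n' * c') * (n * c)⁻¹ * (n' * c')⁻¹ = n * (c * (n' * c' * c⁻¹)) * n⁻¹ * c'⁻¹ * n'⁻¹ := by
            group
        _ = n * ((n' * c' * c⁻¹) * c) * n⁻¹ * c'⁻¹ * n'⁻¹ := by rw [← hc (n' * c' * c⁻¹)]
        _ = n * (n' * (c' * n⁻¹)) * c'⁻¹ * n'⁻¹ := by group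
        _ = n * (n' * (n⁻¹ * c')) * c'⁻¹ * n'⁻¹ := by rw [← hc' n⁻¹]
        _ = n * n' * n⁻¹ * n'⁻¹ := by group
    rw [e, commutatorElement_def]
    exact mul_mem (mul_mem (mul_mem hn hn') (inv_mem hn)) (inv_mem hn')

theorem nontrivial_SL (hF : 4 ≤ Fintype.card F) : Nontrivial (SpecialLinearGroup (Fin 2) F) := by
  have hs := (Cfsg.Agent.TwoFusion.SLTwoFacts.isSimpleGroup_psl (F := F) (by omega)).toNontrivial
  exact (QuotientGroup.mk'_surjective (center (SpecialLinearGroup (Fin 2) F))).nontrivial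

theorem qsg_SL (hF : 4 ≤ Fintype.card F) : QSG (SpecialLinearGroup (Fin 2) F) :=
  ⟨Cfsg.Agent.TwoFusion.SLTwoFacts.commutator_eq_top (by omega), nontrivial_SL hF, sl_normal' hF⟩

theorem qsg_range {S : Type v} [Group S] {κ : SpecialLinearGroup (Fin 2) F →* S} (hF : 4 ≤ Fintype.card F)
    (hker : ∀ C, κ C = 1 → C ∈ center (SpecialLinearGroup (Fin 2) F)) : QSG ↥κ.range := by
  refine (qsg_SL hF).of_surj κ.rangeRestrict κ.rangeRestrict_surjective ?_
  rw [Subgroup.nontrivial_iff_ne_bot]
  intro h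
  have h1 : center (SpecialLinearGroup (Fin 2) F) = ⊤ := by
    rw [eq_top_iff]
    intro C _
    refine hker C ?_
    have h2 : κ C ∈ κ.range := ⟨C, rfl⟩
    rwa [h, mem_bot] at h2
  have h2 := (qsg_SL hF).perfect
  have h3 : commutator (SpecialLinearGroup (Fin 2) F) = ⊥ := by
    rw [_root_.commutator_def, Subgroup.commutator_eq_bot_iff_le_centralizer, coe_top, centralizer_univ, h1]
  have h4 : (⊤ : Subgroup (SpecialLinearGroup (Fin 2) F)) = ⊥ := by rw [← h2, h3]
  have := nontrivial_SL hF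
  exact absurd h4 top_ne_bot

end SL

/-- a `QS` subgroup `L ≠ S` of the socle has a proper normaliser -/
theorem normalizer_ne_top {G : Type u} [Group G] {S L : Subgroup G} (hs : IsSimpleGroup ↥S)
    (hLS : L ≤ S) (hne : L ≠ ⊥) (hL : L ≠ S) : Subgroup.normalizer (L : Set G) ≠ ⊤ := by
  intro h
  have h1 : (L.subgroupOf S).Normal := by
    rw [normal_subgroupOf_iff_le_normalizer hLS, h]
    exact le_top
  rcases hs.eq_bot_or_eq_top_of_normal _ h1 with h2 | h2
  · rw [Subgroup.subgroupOf_eq_bot] at h2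
    apply hne
    rw [eq_bot_iff]
    intro x hx
    exact (disjoint_iff_inf_le.mp h2) ⟨hx, hLS hx⟩
  · exact hL (le_antisymm hLS (Subgroup.subgroupOf_eq_top.1 h2))

/-- **Rows from the reduction to `K`.** -/
theorem wfrow_of_red {S₀ : Type v} [Group S₀] {K : Subgroup S₀} {p : ℕ} [Fact p.Prime] (hK : QSG ↥K)
    (htop : K ≠ ⊤) (hred : Red p K) : WfRow.{u, v} p S₀ := by
  rintro G _ _ S C D h ⟨e⟩
  obtain ⟨c, hc⟩ := h.neC
  obtain ⟨d, hd⟩ := h.neD
  have hSn := h.normal
  let φ : G →* MulAut ↥S := MulAut.conjNormal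
  have hφ : Function.Injective φ := by
    rw [injective_iff_map_eq_one]
    intro g hg
    have h1 : g ∈ Subgroup.centralizer (S : Set G) := by
      rw [Subgroup.mem_centralizer_iff]
      intro s hs
      have h2 : (φ g) ⟨s, hs⟩ = ⟨s, hs⟩ := by rw [hg]; rfl
      have h3 : g * s * g⁻¹ = s := by
        have := congrArg Subtype.val h2
        rwa [MulAut.conjNormal_apply] at this
      calc s * g = (g * s * g⁻¹) * g := by rw [h3]
        _ = g * s := by group
    rwa [h.cent, Subgroup.mem_bot] at h1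
  set L₀ : Subgroup ↥S := K.comap e.toMonoidHom with hL₀
  set L : Subgroup G := L₀.map S.subtype with hL
  have hLS : L ≤ S := Subgroup.map_subtype_le L₀
  have hmemL : ∀ s : ↥S, (s : G) ∈ L ↔ e s ∈ K := by
    intro s
    constructor
    · rintro ⟨y, hy, hys⟩
      have : y = s := Subtype.ext hys
      rw [← this]
      exact hy
    · intro hs
      exact ⟨s, hs, rfl⟩
  -- `L ≃ K`
  have hQ : QS L := by
    refine QSG.qs ?_
    have hf : ∀ k : ↥K, ((e.symm (k : S₀) : ↥S) : G) ∈ L := by
      intro k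
      rw [hmemL, e.apply_symm_apply]
      exact k.2
    let f : ↥K →* ↥L :=
      { toFun := fun k => ⟨((e.symm (k : S₀) : ↥S) : G), hf k⟩
        map_one' := by
          apply Subtype.ext
          show ((e.symm ((1 : ↥K) : S₀) : ↥S) : G) = 1
          rw [Subgroup.coe_one, map_one, Subgroup.coe_one]
        map_mul' := fun a b => by
          apply Subtype.ext
          show ((e.symm ((a * b : ↥K) : S₀) : ↥S) : G) = ((e.symm (a : S₀) : ↥S) : G) * ((e.symm (b : S₀) : ↥S) : G)
          rw [Subgroup.coe_mul, map_mul, Subgroup.coe_mul] }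
    have hfs : Function.Surjective f := by
      rintro ⟨x, hx⟩
      refine ⟨⟨e ⟨x, hLS hx⟩, (hmemL ⟨x, hLS hx⟩).1 hx⟩, ?_⟩
      apply Subtype.ext
      show ((e.symm (e ⟨x, hLS hx⟩) : ↥S) : G) = x
      rw [e.symm_apply_apply]
    refine hK.of_surj f hfs ?_
    obtain ⟨a, b, hab⟩ := hK.ne
    refine ⟨f a, f b, fun hfab => hab ?_⟩
    have h1 : ((e.symm (a : S₀) : ↥S) : G) = ((e.symm (b : S₀) : ↥S) : G) :=
      congrArg (fun z : ↥L => (z : G)) hfab
    exact Subtype.ext (e.symm.injective (Subtype.ext h1))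
  have hLtop : L ≠ S := by
    intro hLS'
    apply htop
    rw [eq_top_iff]
    intro x _
    have h1 : ((e.symm x : ↥S) : G) ∈ L := by rw [hLS']; exact (e.symm x).2
    rw [hmemL, e.apply_symm_apply] at h1
    exact h1
  have hN := normalizer_ne_top h.simple hLS hQ.ne hLtop
  -- the conjugates
  have key : ∀ x : G, orderOf x = p → ∃ g : G, g * x * g⁻¹ ∈ Subgroup.normalizer (L : Set G) ∧
      g * x * g⁻¹ ∉ Subgroup.centralizer (L : Set G) := by
    intro x hx
    have hox : orderOf (MulAut.congr e (φ x)) = p := by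
      rw [orderOf_congr, orderOf_injective φ hφ, hx]
    obtain ⟨_, ⟨s, rfl⟩, h1, y, hyK, hy⟩ := hred _ hox
    -- the action of `s x s⁻¹`
    set g : ↥S := e.symm s with hg
    have hact : ∀ z : ↥S, (MulAut.conj s * MulAut.congr e (φ x) * (MulAut.conj s)⁻¹) (e z) =
        e (φ ((g : G) * x * (g : G)⁻¹) z) := by
      intro z
      have e1 : (MulAut.conj s)⁻¹ (e z) = e (g⁻¹ * z * g) := by
        rw [← map_inv, MulAut.conj_apply, inv_inv, map_mul, map_mul, map_inv, hg, e.apply_symm_apply]
      rw [MulAut.mul_apply, MulAut.mul_apply, e1, MulAut.conj_apply]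
      have e2 : (MulAut.congr e (φ x)) (e (g⁻¹ * z * g)) = e (φ x (g⁻¹ * z * g)) := by
        show e (φ x (e.symm (e (g⁻¹ * z * g)))) = _
        rw [e.symm_apply_apply]
      rw [e2]
      have e3 : s = e g := by rw [hg, e.apply_symm_apply]
      rw [e3, ← map_inv e, ← map_mul e, ← map_mul e]
      congr 1
      apply Subtype.ext
      rw [Subgroup.coe_mul, Subgroup.coe_mul, MulAut.conjNormal_apply, MulAut.conjNormal_apply]
      rw [Subgroup.coe_mul, Subgroup.coe_mul, Subgroup.coe_inv]
      group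
    refine ⟨g, ?_, ?_⟩
    · rw [mem_normalizer_iff]
      intro z
      constructor
      · intro hz
        have h2 := (h1 (e ⟨z, hLS hz⟩)).2 ((hmemL ⟨z, hLS hz⟩).1 hz)
        rw [hact, ← hmemL, MulAut.conjNormal_apply] at h2
        exact h2
      · intro hz
        have hzS : z ∈ S := by
          have h2 := hSn.conj_mem _ (hLS hz) ((g : G) * x * (g : G)⁻¹)⁻¹
          have h3 : ((g : G) * x * (g : G)⁻¹)⁻¹ * (((g : G) * x * (g : G)⁻¹) * z * ((g : G) * x * (g : G)⁻¹)⁻¹) *
              (((g : G) * x * (g : G)⁻¹)⁻¹)⁻¹ = z := by group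
          rwa [h3] at h2
        rw [show z = ((⟨z, hzS⟩ : ↥S) : G) from rfl, hmemL, ← h1, hact, ← hmemL, MulAut.conjNormal_apply]
        exact hz
    · intro hcen
      apply hy
      obtain ⟨z, rfl⟩ := e.surjective y
      rw [hact]
      congr 1
      apply Subtype.ext
      rw [MulAut.conjNormal_apply]
      have hz : (z : G) ∈ L := (hmemL z).2 hyK
      have h2 := mem_centralizer_iff.1 hcen (z : G) hz
      rw [← h2]
      group
  obtain ⟨g, hg1, hg2⟩ := key c (h.ordC c hc)
  obtain ⟨g', hg1', hg2'⟩ := key d (h.ordD d hd)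
  exact h.false_of_component hN hQ (h.conjC g c hc) (h.conjD g' d hd) hg1 hg1' hg2 hg2'

/-- **Rows from the reduction to the image of `SL₂(q)`, `q ≥ 4`.** -/
theorem wfrow_of_sl {S₀ : Type v} [Group S₀] {F : Type w} [Field F] [Fintype F] {p : ℕ} [Fact p.Prime]
    (h4 : 4 ≤ Fintype.card F) {κ : SpecialLinearGroup (Fin 2) F →* S₀}
    (hker : ∀ C, κ C = 1 → C ∈ center (SpecialLinearGroup (Fin 2) F)) (htop : κ.range ≠ ⊤)
    (h : Red p κ.range) : WfRow.{u, v} p S₀ :=
  wfrow_of_red (qsg_range h4 hker) htop h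

/-- an element outside a commuting pair: `κ.range ≠ ⊤` when the centre is trivial -/
theorem range_ne_top {S₀ : Type v} [Group S₀] {A : Type w} [Group A] {κ : A →* S₀} (hZ : center S₀ = ⊥)
    {y : S₀} (hy1 : y ≠ 1) (hy : ∀ a, κ a * y = y * κ a) : κ.range ≠ ⊤ := by
  intro h
  apply hy1
  have h1 : y ∈ center S₀ := by
    rw [mem_center_iff]
    intro g
    have h2 : g ∈ κ.range := by rw [h]; exact mem_top g
    obtain ⟨a, rfl⟩ := h2
    exact hy a
  rwa [hZ, mem_bot] at h1

end Cfsg.Agent.H84.Wf
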