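import Mathlib
import Cfsg.Agent.H84.Wf.TwoA
import Cfsg.Agent.H84.Wf.TwoB

/-!
# The rows `WfRow 3` for `E₇(2)`, `E₈(2)` and for `E₇(q)`, `E₈(q)`, `3 ∤ q` (S3826)
-/

set_option autoImplicit false
set_option linter.unusedSectionVars false

namespace Cfsg.Agent.H84.Wf.Two

open CoxeterSystem Cfsg Cfsg.Lie Cfsg.Lie.ChevalleyDatum
open Cfsg.Agent.ChevalleyStructure Cfsg.Agent.ChevalleyStructure.Elts Cfsg.Agent.ChevalleyStructure.CoxeterGeom
  Cfsg.Agent.ChevalleyStructure.CoxeterGeomTypes Cfsg.Agent.ChevalleyStructure.NPerm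
open Cfsg.Agent.Tits.Roots Cfsg.Agent.Tits.Core Cfsg.Agent.Nodes Cfsg.Agent.Nodes.Reps Cfsg.Agent.Nodes.BNOf
  Cfsg.Agent.Nodes.RGDChev Cfsg.Agent.Nodes.Bruhat Cfsg.Agent.Nodes.SubComb Cfsg.Agent.Nodes.Coroot
  Cfsg.Agent.Nodes.StabComb Cfsg.Agent.Nodes.NormX Cfsg.Agent.Nodes.Sub Cfsg.Agent.Nodes.RGDLib
open Cfsg.Agent.KFacts.RgdField Cfsg.Agent.KFacts.RgdChevCoord Cfsg.Agent.BpExc.TorCent Cfsg.Agent.BpExc.TorChev
open Cfsg.Agent.BpExc Cfsg.Agent.H129.TorusChar Cfsg.Agent.H129.TorusMain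
open Cfsg.Agent.BpExc.FamInst Cfsg.Agent.CpAut.RgdUntw Cfsg.Agent.KFacts.RgdSL
open Cfsg.Agent.H897.T5Sub Cfsg.Agent.H897.T5Frame Cfsg.Agent.H897.T5Conn
open Cfsg.Agent.ChevalleyStructure.SL2Hom (up lo)
open Cfsg.Agent.H533.T5 Cfsg.Agent.H533.Wf
open Cfsg.Agent.H897.T5Untw Cfsg.Agent.H897.T5UntwRow Cfsg.Agent.H84.Wf Cfsg.Agent.H84.Wf.TwoB
open Cfsg.Agent.GenExc (HL csL)
open Matrix (SpecialLinearGroup)

universe u

/-- the torus over the field of two elements -/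
theorem TT_eq_bot {D : ChevalleyDatum} {l : ℕ} {M : CoxeterMatrix (Fin l)} (hp : IsType D l M) {F : Type} [Field F]
    [Fintype F] (hF2 : Fintype.card F = 2) : TT D F = ⊥ := by
  rw [eq_bot_iff]
  intro t ht
  rw [Subgroup.mem_bot]
  refine cX_inj hp ht (one_mem _) fun i => ?_
  rw [TwoA.eq_one_of_two hF2 ((isMC_cX hp ht).ne_zero (sr i)), cX_one]

/-- **`q = 2`** -/
theorem wfrow_two {D : ChevalleyDatum} {l : ℕ} {M : CoxeterMatrix (Fin l)} (hp : IsType D l M) {F : Type} [Field F]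
    [Fintype F] (hF2 : Fintype.card F = 2) {d : ℕ} {B : Fin l → Fin l → ℤ} (hB : FamExt.InvC D l d B) (hd : d ≠ 0)
    (hM : SymTwo M) (h4 : ∀ i j, M i j ≠ 4) (h6 : ∀ i j, M i j ≠ 6)
    (hk1 : ∀ (k : Type) [Field k] [IsAlgClosed k], IsSimpleGroup ↥(D.group k) ∧ ¬ IsMulCommutative ↥(D.group k))
    (hF1 : IsSimpleGroup ↥(D.group F) ∧ ¬ IsMulCommutative ↥(D.group F))
    (hpd : d.Coprime 3) {i0 : Fin l} {par : Fin l → Fin l} {m : ℕ} (hP : Par M i0 par m)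
    {A : Fin l → Fin l → ℤ} {L : List (Fin l → ℤ)} (hAL : FrOK D l i0 (fun j => j) A L)
    (v : Fin 4 → (Fin l → ℤ)) (hv : ∀ i j : Fin 4, i < j → ∃ s < D.nroots, vec D l s = v j - v i)
    -- the Levi subgroup
    {r : Fin l → ℤ} (hr0 : ∃ s < D.nroots, vec D l s = r) {i1 : Fin l} {m1 : ℕ} (f : Fin (m1 + 1) ↪ Fin l)
    {j0 : Fin (m1 + 1)} {par' : Fin (m1 + 1) → Fin (m1 + 1)} {m' : ℕ} (hP' : Par (leviMatrix f M) j0 par' m')
    (hnb : ∀ i, ∃ j, M (f i) (f j) = 3)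
    (hdat : (∀ i, 0 ≤ pairing A i r) ∧ (∀ k, pairing A k r = 0 ↔ ∃ j, f j = k) ∧ pairing A i1 r = 1) :
    WfRow.{u, 0} 3 ↥(D.group F) := by
  have hi1 := hF1.1
  have hcharF : CharP F 2 := by
    obtain ⟨p, hp'⟩ := CharP.exists F
    have hpp : Fact p.Prime := ⟨CharP.char_is_prime F p⟩
    obtain ⟨n, -, hn⟩ := FiniteField.card F p
    rw [hF2] at hn
    have h1 : p ∣ 2 := by rw [hn]; exact dvd_pow_self p n.pos.ne'
    rwa [(Nat.prime_dvd_prime_iff_eq hpp.out Nat.prime_two).1 h1] at hp'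
  have hZF := Untw.center_bot hF1
  have hW : Finite M.Group := finite_W hp M.toCoxeterSystem
  have hWf := Fintype.ofFinite M.Group
  have : Fact (Nat.Prime 2) := ⟨Nat.prime_two⟩
  have : Fact (Nat.Prime 3) := ⟨Nat.prime_three⟩
  have hA : cartanOf D l = A := by
    funext i j
    exact hAL.hA i j
  rw [← hA] at hdat
  obtain ⟨hd1, hd2, hd3⟩ := hdat
  have R := rgd (K := F) hp M.toCoxeterSystem 2
  have hT : (D.diagonalSubgroup F).subgroupOf (D.group F) = ⊥ := TT_eq_bot hp hF2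
  have hG1 : RGDLib.G1 M.toCoxeterSystem hp.isCartan (XX D l F) = ⊤ := G1_eq_top hp M.toCoxeterSystem
  have hG : GG M.toCoxeterSystem hp.isCartan ((D.diagonalSubgroup F).subgroupOf (D.group F)) (XX D l F) = ⊤ := by
    rw [eq_top_iff, ← hG1]
    exact le_sup_right
  have hFrm := hP.frm (M.toCoxeterSystem) hp.isCartan h4 h6
  have hs := sl_of_frm hFrm
  have hr : IsRoot M.toCoxeterSystem hp.isCartan r := (isRoot_iff hp M.toCoxeterSystem r).2 hr0
  obtain ⟨w', hw'⟩ := hP.trans (cs := M.toCoxeterSystem) (h := hp.isCartan) hr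
  have hw : rep M.toCoxeterSystem hp.isCartan w'⁻¹ (sr i0) = r := by rw [← hw', rep_inv_apply]
  have hb := isRoot_sr M.toCoxeterSystem hp.isCartan i1
  have hrb : cpr M.toCoxeterSystem hp.isCartan r (sr i1) = 1 := by rw [cpr_sr]; exact hd3
  obtain ⟨hc1, hc2, hc3⟩ := simple_HL R hT f hP' h4 h6 hnb
  have hnt : Nontrivial ↥(HL M.toCoxeterSystem hp.isCartan (XX D l F) f) := by
    have h1 := X_ne_bot R (isRoot_sr M.toCoxeterSystem hp.isCartan (f 0))
    rw [Subgroup.nontrivial_iff_ne_bot]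
    intro h2
    apply h1
    rw [eq_bot_iff, ← h2]
    exact GenExc.X_le_HL (cs := M.toCoxeterSystem) (h := hp.isCartan) (X := XX D l F) f
      (GenExc.sr_mem_LR (cs := M.toCoxeterSystem) (h := hp.isCartan) f 0)
  refine wfrow_of_red (K := HL M.toCoxeterSystem hp.isCartan (XX D l F) f)
    (qsg_of_quasisimple hc1 hc3.2 hnt) ?_ ?_
  · -- `HL ≠ ⊤`
    intro htop
    have L1 := KFacts.RgdTI.LR.of_SL R hs hr hb hrb
    apply X_ne_bot R hr
    rw [eq_bot_iff, ← hZF]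
    intro u hu
    rw [Subgroup.mem_center_iff]
    intro g
    have h1 : HL M.toCoxeterSystem hp.isCartan (XX D l F) f ≤ Subgroup.centralizer {u} := by
      refine RGD.Sup_le fun x hx => ?_
      intro y hy
      rw [Subgroup.mem_centralizer_singleton_iff]
      refine L1.comm x hx.1 ?_ y hy u hu
      have h2 : x ∈ RootsJ M.toCoxeterSystem hp.isCartan (orth M.toCoxeterSystem hp.isCartan r) := by
        refine ⟨hx.1, fun k hk => hx.2 k fun j hj => hk ?_⟩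
        rw [mem_orth]
        exact (hd2 k).2 ⟨j, hj⟩
      have h3 := form_zero_of_RootsJ h2
      rw [form_comm] at h3
      exact ((cpr_zero_iff _ _ x hr).2 h3).ge
    rw [htop] at h1
    exact Subgroup.mem_centralizer_singleton_iff.1 (h1 (Subgroup.mem_top g))
  · refine red_HL R hT hG hs f hc2 hr hb hrb hd1 (fun k hk => (hd2 k).1 hk) hw (by norm_num) ?_
    intro c hc
    obtain ⟨s, g, h1, h2⟩ := TwoA.red_two hp hF2 hB hd hM h4 h6 hk1 hF1 hpd hP hAL v hv c hc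
    have hsr := simple_lt hp.inList (lt_rank hp i0)
    refine ⟨s, g, h1, fun u hu => ?_, fun u hu => ?_⟩
    · have hu' : u ∈ XX D l F (vec D l (D.simple i0)) := by rw [vec_simple hp]; exact hu
      obtain ⟨t, rfl⟩ := (BpExc.HX.mem_XX_xc hp hsr).1 hu'
      refine h2 _ ⟨up t, ?_⟩
      rw [Untw.ph_up, vec_simple hp]
    · have hu' : u ∈ XX D l F (vec D l (D.neg (D.simple i0))) := by
        rw [vec_neg hp hsr, vec_simple hp]; exact hu
      obtain ⟨t, rfl⟩ := (BpExc.HX.mem_XX_xc hp (neg_lt hp.inList hsr)).1 hu'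
      refine h2 _ ⟨lo t, ?_⟩
      rw [Untw.ph_lo, vec_neg hp hsr, vec_simple hp]

/-! ### the data -/

def r7 : Fin 7 → ℤ := ![2, 2, 3, 4, 3, 2, 1]

def r8 : Fin 8 → ℤ := ![2, 3, 4, 6, 5, 4, 3, 2]

theorem par7' : Par (leviMatrix (Fin.succEmb 6) CoxeterMatrix.E₇) 0 ![0, 2, 0, 2, 3, 4] 6 :=
  ⟨by decide +kernel, rfl, by decide +kernel⟩

theorem par8' : Par (leviMatrix (Fin.castSuccEmb (n := 7)) CoxeterMatrix.E₈) 1 ![2, 1, 3, 1, 3, 4, 5] 7 :=
  ⟨by decide +kernel, rfl, by decide +kernel⟩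

theorem dat7 : (∀ i, 0 ≤ pairing A7 i r7) ∧ (∀ k, pairing A7 k r7 = 0 ↔ ∃ j, (Fin.succEmb 6) j = k) ∧
    pairing A7 0 r7 = 1 := by
  decide +kernel

theorem dat8 : (∀ i, 0 ≤ pairing A8 i r8) ∧ (∀ k, pairing A8 k r8 = 0 ↔ ∃ j, (Fin.castSuccEmb (n := 7)) j = k) ∧
    pairing A8 7 r8 = 1 := by
  decide +kernel

/-- **`E₇(2)`** -/
theorem e7_two {F : Type} [Field F] [Fintype F] (hF2 : Fintype.card F = 2) : WfRow.{u, 0} 3 ↥(chevE7.group F) := by
  have hs := fun (k : Type) [Field k] => S1054.result (F := k) chevE7 (by simp)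
  exact wfrow_two BpExc.RowsUntw.e7T hF2 inv_E7 two_ne_zero symTwo_E7 (fun i j => (n7 i j).1) (fun i j => (n7 i j).2)
    (fun k _ _ => hs k) (hs F) (by norm_num) par7 frOK7 (H469.Exc.c3 7) H469.Exc.chk73 (r := r7)
    (by decide +kernel) (i1 := 0) (Fin.succEmb 6) par7' (by decide +kernel) dat7

/-- **`E₈(2)`** -/
theorem e8_two {F : Type} [Field F] [Fintype F] (hF2 : Fintype.card F = 2) : WfRow.{u, 0} 3 ↥(chevE8.group F) := by
  have hs := fun (k : Type) [Field k] => S1054.result (F := k) chevE8 (by simp)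
  exact wfrow_two BpExc.RowsUntw.e8T hF2 inv_E8 one_ne_zero symTwo_E8 (fun i j => (n8 i j).1) (fun i j => (n8 i j).2)
    (fun k _ _ => hs k) (hs F) (by norm_num) par8 frOK8 (H469.Exc.c3 8) H469.Exc.chk83 (r := r8)
    (by decide +kernel) (i1 := 7) (Fin.castSuccEmb (n := 7)) par8' (by decide +kernel) dat8

/-- **`E₇(q)`, `3 ∤ q`** -/
theorem e7_cross {F : Type} [Field F] [Fintype F] (h3 : ¬ 3 ∣ Fintype.card F) :
    WfRow.{u, 0} 3 ↥(chevE7.group F) := by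
  have h1 : 1 < Fintype.card F := Fintype.one_lt_card
  by_cases h4 : 4 ≤ Fintype.card F
  · exact Untw.e7_four h4 h3
  · exact e7_two (by omega)

/-- **`E₈(q)`, `3 ∤ q`** -/
theorem e8_cross {F : Type} [Field F] [Fintype F] (h3 : ¬ 3 ∣ Fintype.card F) :
    WfRow.{u, 0} 3 ↥(chevE8.group F) := by
  have h1 : 1 < Fintype.card F := Fintype.one_lt_card
  by_cases h4 : 4 ≤ Fintype.card F
  · exact Untw.e8_four h4 h3
  · exact e8_two (by omega)

end Cfsg.Agent.H84.Wf.Two
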